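import Mathlib
import Groth.Prelude.Def_AlphaP
import Groth.Prelude.Def_CartDual

/-!
# Cartier self-duality of α_p

The dual Hopf algebra of `R[X]/(X^p)` (X primitive, char p) is isomorphic to `R[X]/(X^p)`:
the linear form dual to `X` generates a divided power structure.
-/

universe u

namespace Groth.Agent.Helper19.AlphaPDual

open TensorProduct

variable (p : ℕ) [hp : Fact p.Prime] (R : Type u) [CommRing R] [CharP R p]

include hp in
theorem nontriv : Nontrivial R := CharP.nontrivial_of_char_ne_one (R := R) hp.out.ne_one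

/-- the basis `1, x, …, x^(p-1)`. -/
noncomputable def bas : Module.Basis (Fin p) R (AlphaP.A p R) :=
  haveI := nontriv p R
  AlphaP.basis p R

theorem bas_apply (i : Fin p) : bas p R i = AlphaP.x p R ^ (i : ℕ) := by
  haveI := nontriv p R
  exact AlphaP.basis_apply p R i

/-- The coordinate forms in the dual. -/
noncomputable def dcoord (i : Fin p) : CartDual.D R (AlphaP.A p R) :=
  WithConv.toConv ((bas p R).coord i)

theorem dcoord_x_pow (i : Fin p) (m : ℕ) (hm : m < p) :
    dcoord p R i (AlphaP.x p R ^ m) = if m = (i : ℕ) then 1 else 0 := by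
  have h : AlphaP.x p R ^ m = bas p R ⟨m, hm⟩ := (bas_apply p R ⟨m, hm⟩).symm
  rw [h]
  show (bas p R).coord i (bas p R ⟨m, hm⟩) = _
  rw [Module.Basis.coord_apply, Module.Basis.repr_self, Finsupp.single_apply]
  simp [Fin.ext_iff]

theorem D_ext {f g : CartDual.D R (AlphaP.A p R)}
    (h : ∀ m, m < p → f (AlphaP.x p R ^ m) = g (AlphaP.x p R ^ m)) : f = g := by
  apply WithConv.ext
  apply (bas p R).ext
  intro i
  rw [bas_apply]
  exact h i i.2

theorem comul_x_pow (m : ℕ) :
    Coalgebra.comul (R := R) (AlphaP.x p R ^ m) =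
      ∑ k ∈ Finset.range (m + 1),
        (m.choose k : R) • ((AlphaP.x p R ^ k) ⊗ₜ[R] (AlphaP.x p R ^ (m - k))) := by
  have h1 : Coalgebra.comul (R := R) (AlphaP.x p R ^ m) =
      (Bialgebra.comulAlgHom R (AlphaP.A p R)) (AlphaP.x p R ^ m) := rfl
  rw [h1, map_pow, Bialgebra.comulAlgHom_apply, AlphaP.comul_x, add_pow]
  refine Finset.sum_congr rfl fun k _ => ?_
  rw [Algebra.TensorProduct.tmul_pow, Algebra.TensorProduct.tmul_pow, one_pow, one_pow,
    Algebra.TensorProduct.tmul_mul_tmul, mul_one, one_mul]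
  rw [mul_comm, ← nsmul_eq_mul, Nat.cast_smul_eq_nsmul]

theorem conv_apply_x_pow (f g : CartDual.D R (AlphaP.A p R)) (m : ℕ) :
    (f * g) (AlphaP.x p R ^ m) = ∑ k ∈ Finset.range (m + 1),
      (m.choose k : R) * (f (AlphaP.x p R ^ k) * g (AlphaP.x p R ^ (m - k))) := by
  rw [LinearMap.convMul_apply, comul_x_pow, map_sum, map_sum]
  refine Finset.sum_congr rfl fun k _ => ?_
  rw [map_smul, map_smul, TensorProduct.map_tmul, LinearMap.mul'_apply, smul_eq_mul]

theorem counit_x_pow (m : ℕ) :
    Coalgebra.counit (R := R) (AlphaP.x p R ^ m) = if m = 0 then (1 : R) else 0 := by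
  have h1 : Coalgebra.counit (R := R) (AlphaP.x p R ^ m) =
      (Bialgebra.counitAlgHom R (AlphaP.A p R)) (AlphaP.x p R ^ m) := rfl
  rw [h1, map_pow, Bialgebra.counitAlgHom_apply, AlphaP.counit_x]
  rcases Nat.eq_zero_or_pos m with rfl | hm
  · simp
  · rw [zero_pow hm.ne', if_neg hm.ne']

theorem one_apply_x_pow (m : ℕ) :
    (1 : CartDual.D R (AlphaP.A p R)) (AlphaP.x p R ^ m) = if m = 0 then (1 : R) else 0 := by
  rw [LinearMap.convOne_apply, counit_x_pow]
  rfl

/-- The form dual to `x`. -/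
noncomputable def e1 : CartDual.D R (AlphaP.A p R) := dcoord p R ⟨1, hp.out.one_lt⟩

theorem e1_apply (m : ℕ) (hm : m < p) :
    e1 p R (AlphaP.x p R ^ m) = if m = 1 then 1 else 0 :=
  dcoord_x_pow p R _ m hm

theorem e1_pow_apply (n : ℕ) : ∀ m, m < p →
    (e1 p R ^ n) (AlphaP.x p R ^ m) = if m = n then (n.factorial : R) else 0 := by
  induction n with
  | zero =>
    intro m hm
    rw [pow_zero, one_apply_x_pow]
    simp
  | succ n ih =>
    intro m hm
    rw [pow_succ, conv_apply_x_pow]
    by_cases hmn : m = n + 1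
    · subst hmn
      rw [if_pos rfl, Finset.sum_eq_single n]
      · rw [ih n (by omega), if_pos rfl, e1_apply p R _ (by omega), if_pos (by omega), mul_one,
          Nat.choose_succ_self_right, Nat.factorial_succ, Nat.cast_mul]
      · intro k hk hkn
        rw [ih k (by have := Finset.mem_range.mp hk; omega), if_neg hkn, zero_mul, mul_zero]
      · intro h
        exact absurd (Finset.mem_range.mpr (by omega)) h
    · rw [if_neg hmn]
      refine Finset.sum_eq_zero fun k hk => ?_
      have hk' := Finset.mem_range.mp hk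
      by_cases hkn : k = n
      · subst hkn
        rw [e1_apply p R _ (by omega), if_neg (by omega), mul_zero, mul_zero]
      · rw [ih k (by omega), if_neg hkn, zero_mul, mul_zero]

theorem e1_pow_p : e1 p R ^ p = 0 := by
  apply D_ext p R
  intro m hm
  rw [e1_pow_apply p R p m hm, if_neg (by omega)]
  rfl

/-- The algebra map `A → D`, `x ↦ e1`. -/
noncomputable def phi : AlphaP.A p R →ₐ[R] CartDual.D R (AlphaP.A p R) :=
  AlphaP.lift p R (e1 p R) (e1_pow_p p R)

theorem phi_x : phi p R (AlphaP.x p R) = e1 p R := AlphaP.lift_x _ _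

theorem phi_x_pow (i : ℕ) : phi p R (AlphaP.x p R ^ i) = e1 p R ^ i := by
  rw [map_pow, phi_x]

theorem isUnit_factorial (i : ℕ) (hi : i < p) : IsUnit ((i.factorial : ℕ) : R) := by
  have h1 : ((i.factorial : ℕ) : ZMod p) ≠ 0 := by
    rw [Ne, ZMod.natCast_eq_zero_iff, hp.out.dvd_factorial]
    omega
  have h2 : IsUnit ((i.factorial : ℕ) : ZMod p) := IsUnit.mk0 _ h1
  have h3 := h2.map (ZMod.castHom (dvd_refl p) R)
  rwa [map_natCast] at h3

noncomputable def wUnit (i : Fin p) : Rˣ := (isUnit_factorial p R i i.2).unit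

theorem wUnit_val (i : Fin p) : ((wUnit p R i : Rˣ) : R) = ((i : ℕ).factorial : R) :=
  IsUnit.unit_spec _

noncomputable def dualBas : Module.Basis (Fin p) R (CartDual.D R (AlphaP.A p R)) :=
  (((bas p R).dualBasis).map (CartDual.toDual R (AlphaP.A p R)).symm).unitsSMul (wUnit p R)

theorem dualBas_apply (i : Fin p) :
    dualBas p R i = ((i : ℕ).factorial : R) • dcoord p R i := by
  rw [dualBas, Module.Basis.unitsSMul_apply, Module.Basis.map_apply, Units.smul_def, wUnit_val,
    Module.Basis.coe_dualBasis]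
  rfl

theorem e1_pow_eq (i : Fin p) :
    e1 p R ^ (i : ℕ) = ((i : ℕ).factorial : R) • dcoord p R i := by
  apply D_ext p R
  intro m hm
  rw [e1_pow_apply p R _ m hm]
  show _ = ((i : ℕ).factorial : R) * dcoord p R i (AlphaP.x p R ^ m)
  rw [dcoord_x_pow p R i m hm]
  split_ifs <;> simp

theorem phi_bijective : Function.Bijective (phi p R) := by
  have hφ : (phi p R).toLinearMap =
      ((bas p R).equiv (dualBas p R) (Equiv.refl _)).toLinearMap := by
    apply (bas p R).ext
    intro i
    rw [AlgHom.toLinearMap_apply, LinearEquiv.coe_coe, Module.Basis.equiv_apply, Equiv.refl_apply,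
      dualBas_apply, bas_apply, phi_x_pow, e1_pow_eq]
  have h2 : (phi p R : AlphaP.A p R → _) = ((bas p R).equiv (dualBas p R) (Equiv.refl _)) :=
    funext fun a => LinearMap.congr_fun hφ a
  rw [h2]
  exact ((bas p R).equiv (dualBas p R) (Equiv.refl _)).bijective

theorem ite_identity (S : Type*) [Semiring S] (i j : ℕ) :
    (if i + j = 1 then (1 : S) else 0) =
      (if i = 1 then 1 else 0) * (if j = 0 then 1 else 0) +
        (if i = 0 then 1 else 0) * (if j = 1 then 1 else 0) := by
  by_cases h0 : i = 0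
  · subst h0
    by_cases h1 : j = 1
    · subst h1; simp
    · have : ¬ (0 + j = 1) := by omega
      simp [h1]
  · by_cases h1 : i = 1
    · subst h1
      by_cases hj : j = 0
      · subst hj; simp
      · have : ¬ (1 + j = 1) := by omega
        simp [hj]
    · have : ¬ (i + j = 1) := by omega
      simp [this, h0, h1]

theorem e1_mul (i j : ℕ) (hi : i < p) (hj : j < p) :
    e1 p R (AlphaP.x p R ^ i * AlphaP.x p R ^ j) =
      e1 p R (AlphaP.x p R ^ i) * (1 : CartDual.D R (AlphaP.A p R)) (AlphaP.x p R ^ j) +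
      (1 : CartDual.D R (AlphaP.A p R)) (AlphaP.x p R ^ i) * e1 p R (AlphaP.x p R ^ j) := by
  have h2 : 2 ≤ p := hp.out.two_le
  rw [← pow_add, e1_apply p R i hi, e1_apply p R j hj, one_apply_x_pow, one_apply_x_pow,
    ← ite_identity R i j]
  by_cases hij : i + j < p
  · rw [e1_apply p R _ hij]
  · rw [AlphaP.x_pow_of_le p R (by omega : p ≤ i + j), if_neg (by omega)]
    exact map_zero (e1 p R).ofConv

theorem comul_e1 : Coalgebra.comul (R := R) (e1 p R) =
    e1 p R ⊗ₜ[R] (1 : CartDual.D R (AlphaP.A p R)) +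
      (1 : CartDual.D R (AlphaP.A p R)) ⊗ₜ[R] e1 p R := by
  apply (CartDual.ev₂ R (AlphaP.A p R)).injective
  apply ((bas p R).tensorProduct (bas p R)).ext
  rintro ⟨i, j⟩
  rw [Module.Basis.tensorProduct_apply, bas_apply, bas_apply, CartDual.ev₂_coalgebra_comul_tmul,
    map_add, LinearMap.add_apply, CartDual.ev₂_tmul, CartDual.ev₂_tmul]
  exact e1_mul p R i j i.2 j.2

theorem exists_equiv : ∃ e : CartDual.D R (AlphaP.A p R) ≃ₐc[R] AlphaP.A p R,
    ∀ a, e.symm a = phi p R a := by
  let f : AlphaP.A p R ≃ₐ[R] CartDual.D R (AlphaP.A p R) :=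
    AlgEquiv.ofBijective (phi p R) (phi_bijective p R)
  have hfx : (f : AlphaP.A p R →ₐ[R] CartDual.D R (AlphaP.A p R)) (AlphaP.x p R) = e1 p R :=
    phi_x p R
  have h1 : (Bialgebra.counitAlgHom R (CartDual.D R (AlphaP.A p R))).comp
      (f : AlphaP.A p R →ₐ[R] CartDual.D R (AlphaP.A p R)) =
        Bialgebra.counitAlgHom R (AlphaP.A p R) := by
    apply AlphaP.algHom_ext
    show Coalgebra.counit (R := R)
      ((f : AlphaP.A p R →ₐ[R] CartDual.D R (AlphaP.A p R)) (AlphaP.x p R)) =
        Coalgebra.counit (R := R) (AlphaP.x p R)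
    rw [hfx, AlphaP.counit_x, CartDual.coalgebra_counit_apply]
    have h := e1_apply p R 0 hp.out.pos
    rw [pow_zero] at h
    rw [h, if_neg (by norm_num)]
  have h2 : (Algebra.TensorProduct.map
      (f : AlphaP.A p R →ₐ[R] CartDual.D R (AlphaP.A p R))
      (f : AlphaP.A p R →ₐ[R] CartDual.D R (AlphaP.A p R))).comp
        (Bialgebra.comulAlgHom R (AlphaP.A p R)) =
      (Bialgebra.comulAlgHom R (CartDual.D R (AlphaP.A p R))).comp
        (f : AlphaP.A p R →ₐ[R] CartDual.D R (AlphaP.A p R)) := by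
    apply AlphaP.algHom_ext
    show Algebra.TensorProduct.map
      (f : AlphaP.A p R →ₐ[R] CartDual.D R (AlphaP.A p R))
      (f : AlphaP.A p R →ₐ[R] CartDual.D R (AlphaP.A p R))
        (Coalgebra.comul (R := R) (AlphaP.x p R)) =
      Coalgebra.comul (R := R)
        ((f : AlphaP.A p R →ₐ[R] CartDual.D R (AlphaP.A p R)) (AlphaP.x p R))
    rw [AlphaP.comul_x, map_add, Algebra.TensorProduct.map_tmul, Algebra.TensorProduct.map_tmul,
      map_one, hfx, comul_e1]
  exact ⟨(BialgEquiv.ofAlgEquiv f h1 h2).symm, fun a => rfl⟩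

end Groth.Agent.Helper19.AlphaPDual
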