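import Mathlib
import Groth.Prelude.Def_Versch
import Groth.Agent.Lib.Helper19.AlphaP.Dual

/-!
# The Verschiebung of α_p is trivial
-/

universe u

namespace Groth.Agent.Helper19.AlphaPDual

open TensorProduct

variable (p : ℕ) [hp : Fact p.Prime] (R : Type u) [CommRing R] [CharP R p]

/-- In `R[X]/(X^p)` (char p), `a^p = ε(a)^p`. -/
theorem A_pow_p (a : AlphaP.A p R) :
    a ^ p = algebraMap R (AlphaP.A p R) ((Coalgebra.counit (R := R) a) ^ p) := by
  obtain ⟨f, rfl⟩ := AlphaP.mk_surjective p R a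
  have hf : AlphaP.mk p R f =
      AlphaP.mk p R f.divX * AlphaP.x p R + algebraMap R (AlphaP.A p R) (f.coeff 0) := by
    conv_lhs => rw [← Polynomial.divX_mul_X_add f]
    rw [map_add, map_mul, AlphaP.mk_X, Polynomial.C_eq_algebraMap, AlgHom.commutes]
  have h1 : ∀ a, Coalgebra.counit (R := R) a = Bialgebra.counitAlgHom R (AlphaP.A p R) a :=
    fun _ => rfl
  have hc : Coalgebra.counit (R := R) (AlphaP.mk p R f) = f.coeff 0 := by
    rw [hf, h1, map_add, map_mul, AlgHom.commutes, ← h1 (AlphaP.x p R), AlphaP.counit_x, mul_zero,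
      zero_add]
    rfl
  rw [hc, hf, add_pow_char, mul_pow, AlphaP.x_pow, mul_zero, zero_add, ← map_pow]

/-- In the dual of α_p, `y^p = y(1)^p`. -/
theorem D_pow_p (y : CartDual.D R (AlphaP.A p R)) :
    y ^ p = algebraMap R (CartDual.D R (AlphaP.A p R)) ((y 1) ^ p) := by
  obtain ⟨e, -⟩ := exists_equiv p R
  have hcu : Coalgebra.counit (R := R) (e y) = Coalgebra.counit (R := R) y :=
    CoalgHomClass.counit_comp_apply e y
  have key : e (y ^ p) = e (algebraMap R (CartDual.D R (AlphaP.A p R)) ((y 1) ^ p)) := by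
    rw [map_pow, A_pow_p, hcu, CartDual.coalgebra_counit_apply]
    exact (AlgHomClass.commutes e _).symm
  exact EquivLike.injective e key

theorem isVerschiebung_trivial :
    Versch.IsVerschiebung p R (AlphaP.A p R)
      (((Algebra.TensorProduct.includeRight (R := R) (A := AlphaP.A p R)
          (B := FrobAlg.Twist p R)).toRingHom.comp
          (FrobAlg.toTwist p R).toRingHom).comp
            (Bialgebra.counitAlgHom R (AlphaP.A p R)).toRingHom) := by
  rw [Versch.isVerschiebung_iff]
  intro a y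
  show Versch.evTw p R (AlphaP.A p R) y
    ((1 : AlphaP.A p R) ⊗ₜ[R] (FrobAlg.toTwist p R (Coalgebra.counit (R := R) a))) = _
  rw [Versch.evTw_tmul', D_pow_p, LinearMap.convAlgebraMap_apply, ← map_mul]
  rfl

end Groth.Agent.Helper19.AlphaPDual
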